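import Cfsg.Agent.H357.CV.Tool
import Cfsg.Agent.H548.CV.Eig
import Cfsg.Agent.H411.Six.EmbN
import Cfsg.Agent.H350.Spec.PslFrob
import Cfsg.Agent.Lib.Zsigmondy
import Cfsg.Agent.LieClassical.SympCount
import Cfsg.Agent.LieClassical.SympCenter
import Cfsg.Agent.S0270
import Cfsg.Prelude.Def_Classical

/-!
# S3442, cross characteristic, `PSp_2m(q)`, `q` odd, `m ≥ 3` odd (row X6; helper238)

* `ord_minus` : `R` a primitive prime divisor of `q ^ m - 1` (`m` odd): elements of `PSp_2m(q)` of order divisible by `R`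
  have order dividing `(q ^ m - 1) / 2`;
* `ord_plus` : the same for `q ^ m + 1`;
* `hit_psp_odd` : `Hit r (PSp m F)`.
-/

set_option autoImplicit false
set_option linter.unusedSectionVars false

namespace Cfsg.Agent.H238.CV.Psp

open Matrix Polynomial Cfsg Cfsg.Agent.H548.CV Cfsg.Agent.H373.CV

universe u v

section Ord

variable {F : Type v} [Field F] [Fintype F] {m : ℕ}

/-- an eigenvalue of order divisible by `R` -/
theorem exists_eig {R : ℕ} (hR : R.Prime) (hRF : (R : F) ≠ 0) (x : symplecticGroup (Fin m) F) (hx0 : 0 < orderOf x)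
    (hx : R ∣ orderOf x) : ∃ a : AlgebraicClosure F, a ≠ 0 ∧ aeval a x.1.charpoly = 0 ∧ ∀ t : ℕ, a ^ t = 1 → R ∣ t := by
  have := Fact.mk hR
  set n := orderOf x with hn
  obtain ⟨k, hk⟩ := hx
  have hk0 : 0 < k := by
    rcases Nat.eq_zero_or_pos k with h | h
    · rw [h, mul_zero] at hk; omega
    · exact h
  have h1 : (x ^ k) ^ R = 1 := by rw [← pow_mul, mul_comm, ← hk, hn]; exact pow_orderOf_eq_one x
  have h2 : (x ^ k) ^ 1 ≠ 1 := by
    intro h
    rw [pow_one] at h
    have := Nat.le_of_dvd hk0 (orderOf_dvd_of_pow_eq_one h)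
    rw [← hn, hk] at this
    nlinarith [hR.two_le]
  obtain ⟨b, hb, hb1, hb2⟩ := exists_root_ne (Ω := AlgebraicClosure F)
    ((x ^ k : symplecticGroup (Fin m) F) : Matrix (Fin m ⊕ Fin m) (Fin m ⊕ Fin m) F) hRF (coe_pow_eq h1)
    (coe_pow_ne h2) one_ne_zero
  rw [pow_one] at hb2
  have hord : orderOf b = R := orderOf_eq_prime hb1 hb2
  rw [SubmonoidClass.coe_pow] at hb
  obtain ⟨a, ha, hab⟩ := exists_root_pow _ hk0 hb
  have hb0 : b ≠ 0 := by
    rintro rfl
    rw [zero_pow hR.ne_zero] at hb1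
    exact zero_ne_one hb1
  have ha0 : a ≠ 0 := by
    rintro rfl
    rw [zero_pow hk0.ne'] at hab
    exact hb0 hab.symm
  refine ⟨a, ha0, ha, ?_⟩
  intro t ht
  rw [← hord]
  apply orderOf_dvd_of_pow_eq_one
  rw [← hab, ← pow_mul, mul_comm, pow_mul, ht, one_pow]

theorem fac (q e : ℕ) (hq : 0 < q) : q ^ (2 * e) - 1 = (q ^ e + 1) * (q ^ e - 1) := by
  have h5 : q ^ (2 * e) = q ^ e * q ^ e := by rw [two_mul, pow_add]
  rw [h5]
  obtain ⟨c, hc⟩ : ∃ c, q ^ e = c + 1 := ⟨q ^ e - 1, by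
    have := pow_pos hq e; omega⟩
  rw [hc, Nat.add_sub_cancel]
  have : (c + 1) * (c + 1) = (c + 1 + 1) * c + 1 := by ring
  rw [this, Nat.add_sub_cancel]

/-- a scalar power from the characteristic polynomial -/
theorem scalar_of_dvd {x : Matrix (Fin m ⊕ Fin m) (Fin m ⊕ Fin m) F} {k : ℕ} {ε : F}
    (h : x.charpoly ∣ X ^ k - C ε) : x ^ k = ε • 1 := by
  obtain ⟨c, hc⟩ := h
  have h7 := congrArg (aeval x) hc
  rw [map_mul, Matrix.aeval_self_charpoly, zero_mul, map_sub, map_pow, aeval_X, aeval_C, sub_eq_zero] at h7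
  rw [h7, Algebra.algebraMap_eq_smul_one]

theorem sign_of_sq {a : AlgebraicClosure F} {k N : ℕ} (hN : 2 * k = N) (h : a ^ N = 1) :
    ∃ ε : F, a ^ k = algebraMap F (AlgebraicClosure F) ε ∧ ε * ε = 1 := by
  have h1 : (a ^ k) ^ 2 = 1 := by rw [← pow_mul, mul_comm, hN, h]
  rcases sq_eq_one_iff.1 h1 with h2 | h2
  · exact ⟨1, by rw [h2, map_one], one_mul 1⟩
  · exact ⟨-1, by rw [h2, map_neg, map_one], by ring⟩

/-- **`q ^ m + 1`** -/
theorem pow_plus {R : ℕ} (hR : R.Prime) (hR2 : R ≠ 2) (hRF : (R : F) ≠ 0)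
    (hR1 : ∀ e, 1 ≤ e → e < m → ¬ R ∣ Fintype.card F ^ (2 * e) - 1) (hR3 : ¬ R ∣ Fintype.card F ^ m - 1)
    (x : symplecticGroup (Fin m) F) (hx0 : 0 < orderOf x) (hx : R ∣ orderOf x) {k : ℕ}
    (hk : 2 * k = Fintype.card F ^ m + 1) : x ^ k ∈ Subgroup.center (symplecticGroup (Fin m) F) := by
  obtain ⟨a, ha0, ha, key⟩ := exists_eig hR hRF x hx0 hx
  have hR4 : 2 < R := lt_of_le_of_ne hR.two_le (Ne.symm hR2)
  have hasq : a ^ 2 ≠ 1 := by
    intro h
    exact absurd (Nat.le_of_dvd (by norm_num) (key 2 h)) (by omega)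
  have hint : IsIntegral F a := Algebra.IsIntegral.isIntegral a
  have hmon := Matrix.charpoly_monic x.1
  obtain ⟨e, he1, he2, h⟩ := eig_pow hint ha0 hasq hmon.ne_zero (natDegree_cp x.1) ha (inv_root x.2 ha0 ha)
  have hq : 0 < Fintype.card F := Fintype.card_pos
  have hem : e = m := by
    by_contra hne
    apply hR1 e he1 (by omega)
    rw [fac _ _ hq]
    rcases h with ⟨-, h⟩ | ⟨-, h⟩
    · exact (key _ h).mul_left _
    · exact (key _ h).mul_right _
  subst hem
  rcases h with ⟨-, h⟩ | ⟨hdeg, h⟩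
  · exact absurd (key _ h) hR3
  · have h5 : minpoly F a = x.1.charpoly :=
      (eq_of_monic_of_dvd_of_natDegree_le (minpoly.monic hint) hmon (minpoly.dvd F a ha)
        (by rw [natDegree_cp, hdeg])).symm
    obtain ⟨ε, hε, -⟩ := sign_of_sq hk h
    rw [LieClassical.SympCenter.mem_center_iff]
    refine ⟨ε, ?_⟩
    rw [SubmonoidClass.coe_pow]
    apply scalar_of_dvd
    rw [← h5]
    apply minpoly.dvd
    rw [map_sub, map_pow, aeval_X, aeval_C, hε, sub_self]

/-- **`q ^ m - 1`** -/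
theorem pow_minus {R : ℕ} (hR : R.Prime) (hR2 : R ≠ 2) (hRF : (R : F) ≠ 0)
    (hR1 : ∀ e, 1 ≤ e → e < m → ¬ R ∣ Fintype.card F ^ (2 * e) - 1) (hR3 : ¬ R ∣ Fintype.card F ^ m + 1)
    (x : symplecticGroup (Fin m) F) (hx0 : 0 < orderOf x) (hx : R ∣ orderOf x) {k : ℕ}
    (hk : 2 * k = Fintype.card F ^ m - 1) : x ^ k ∈ Subgroup.center (symplecticGroup (Fin m) F) := by
  obtain ⟨a, ha0, ha, key⟩ := exists_eig hR hRF x hx0 hx
  have hR4 : 2 < R := lt_of_le_of_ne hR.two_le (Ne.symm hR2)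
  have hasq : a ^ 2 ≠ 1 := by
    intro h
    exact absurd (Nat.le_of_dvd (by norm_num) (key 2 h)) (by omega)
  have hint : IsIntegral F a := Algebra.IsIntegral.isIntegral a
  have hmon := Matrix.charpoly_monic x.1
  obtain ⟨e, he1, he2, h⟩ := eig_pow hint ha0 hasq hmon.ne_zero (natDegree_cp x.1) ha (inv_root x.2 ha0 ha)
  have hq : 0 < Fintype.card F := Fintype.card_pos
  have hem : e = m := by
    by_contra hne
    apply hR1 e he1 (by omega)
    rw [fac _ _ hq]
    rcases h with ⟨-, h⟩ | ⟨-, h⟩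
    · exact (key _ h).mul_left _
    · exact (key _ h).mul_right _
  subst hem
  rcases h with ⟨hdeg, h⟩ | ⟨-, h⟩
  · obtain ⟨ε, hε, hε2⟩ := sign_of_sq hk h
    have hne : minpoly F a⁻¹ ≠ minpoly F a := by
      intro hf
      obtain ⟨i, hi, hia⟩ := conj_pow hint (by rw [← hf]; exact minpoly.aeval _ _) (inv_mem_adj (F := F) (a := a))
      have h1 : a ^ (Fintype.card F ^ i + 1) = 1 := by rw [pow_succ, ← hia, inv_mul_cancel₀ ha0]
      have h2 := key _ h1
      rcases Nat.eq_zero_or_pos i with h0 | h0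
      · rw [h0, pow_zero] at h2
        exact absurd (Nat.le_of_dvd (by norm_num) h2) (by omega)
      · apply hR1 i h0 (by omega)
        rw [fac _ _ hq]
        exact h2.mul_right _
    have hirr1 := minpoly.irreducible hint
    have hirr2 := minpoly.irreducible hint.inv
    have hcop : IsCoprime (minpoly F a) (minpoly F a⁻¹) := by
      rw [hirr1.coprime_iff_not_dvd]
      intro h3
      apply hne
      exact (eq_of_monic_of_associated (minpoly.monic hint) (minpoly.monic hint.inv)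
        (hirr1.associated_of_dvd hirr2 h3)).symm
    have h3 : minpoly F a * minpoly F a⁻¹ ∣ x.1.charpoly :=
      hcop.mul_dvd (minpoly.dvd F a ha) (minpoly.dvd F a⁻¹ (inv_root x.2 ha0 ha))
    have h4 : minpoly F a * minpoly F a⁻¹ = x.1.charpoly :=
      (eq_of_monic_of_dvd_of_natDegree_le ((minpoly.monic hint).mul (minpoly.monic hint.inv)) hmon h3
        (by rw [natDegree_cp, natDegree_mul hirr1.ne_zero hirr2.ne_zero, deg_inv hint, hdeg, two_mul])).symm
    rw [LieClassical.SympCenter.mem_center_iff]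
    refine ⟨ε, ?_⟩
    rw [SubmonoidClass.coe_pow]
    apply scalar_of_dvd
    rw [← h4]
    refine hcop.mul_dvd ?_ ?_
    · apply minpoly.dvd
      rw [map_sub, map_pow, aeval_X, aeval_C, hε, sub_self]
    · apply minpoly.dvd
      rw [map_sub, map_pow, aeval_X, aeval_C, inv_pow, hε, ← map_inv₀, inv_eq_of_mul_eq_one_left hε2, sub_self]
  · exact absurd (key _ h) hR3

end Ord

/-- in the quotient by the centre -/
theorem ord_quot {G : Type v} [Group G] [Finite G] {R k : ℕ}
    (h : ∀ x : G, R ∣ orderOf x → x ^ k ∈ Subgroup.center G) (y : G ⧸ Subgroup.center G) (hy : R ∣ orderOf y) :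
    orderOf y ∣ k := by
  obtain ⟨x, rfl⟩ := QuotientGroup.mk_surjective y
  have h1 := h x (hy.trans (orderOf_map_dvd (QuotientGroup.mk' (Subgroup.center G)) x))
  apply orderOf_dvd_of_pow_eq_one
  rw [← QuotientGroup.mk_pow]
  exact (QuotientGroup.eq_one_iff _).2 h1

/-- **Row X6.** -/
theorem hit_psp_odd {F : Type v} [Field F] [Fintype F] {m : ℕ} (hF : Odd (Fintype.card F)) (hm3 : 3 ≤ m) (hm : Odd m)
    {r : ℕ} (hr : r.Prime) (hrF : ¬ r ∣ Fintype.card F) : Hit.{u, v} r (PSp m F) := by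
  classical
  have hsimp : IsSimpleGroup (PSp m F) := Cfsg.Agent.S0270.result (F := F) m (by omega) fun h2 => absurd h2 (by omega)
  set q := Fintype.card F with hq
  have hq1 : 1 < q := Fintype.one_lt_card
  have hq3 : 3 ≤ q := by obtain ⟨c, hc⟩ := hF; omega
  have : NeZero m := ⟨by omega⟩
  -- primes
  obtain ⟨R, hR, hRm, -, hRq⟩ := Cfsg.Agent.Lib.Zsigmondy.exists_primitive (a := q) (n := m) (by omega) (by omega)
    (by omega) (by omega)
  obtain ⟨P, hP, hPm, -, hPq⟩ := Cfsg.Agent.Lib.Zsigmondy.exists_primitive (a := q) (n := 2 * m) (by omega) (by omega)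
    (by omega) (by omega)
  have h2q : 2 ∣ q - 1 := by obtain ⟨c, hc⟩ := hF; exact ⟨c, by omega⟩
  have hR2 : R ≠ 2 := by
    rintro rfl
    have h1 : 2 ∣ q ^ 1 - 1 := by rwa [pow_one]
    have := Nat.le_of_dvd (by norm_num) ((hRm 1).1 h1)
    omega
  have hP2 : P ≠ 2 := by
    rintro rfl
    have h1 : 2 ∣ q ^ 1 - 1 := by rwa [pow_one]
    have := Nat.le_of_dvd (by norm_num) ((hPm 1).1 h1)
    omega
  have hcast : ∀ {s : ℕ}, s.Prime → ¬ s ∣ q → (s : F) ≠ 0 := by
    intro s hs hsq h0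
    obtain ⟨p, hp⟩ := CharP.exists F
    have hpp : Nat.Prime p := CharP.char_is_prime F p
    have h1 : p ∣ s := (CharP.cast_eq_zero_iff F p s).1 h0
    have h2 : p = s := (Nat.prime_dvd_prime_iff_eq hpp hs).1 h1
    obtain ⟨k, hk, hk'⟩ := FiniteField.card F p
    apply hsq
    rw [hq, hk', ← h2]
    exact dvd_pow_self p k.ne_zero
  have hqm : Odd (q ^ m) := hF.pow
  have hqmpos : 3 ≤ q ^ m := hq3.trans (Nat.le_self_pow (by omega) q)
  obtain ⟨k, hk⟩ : ∃ k, 2 * k = q ^ m - 1 := by obtain ⟨c, hc⟩ := hqm; exact ⟨c, by omega⟩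
  have hk' : 2 * (k + 1) = q ^ m + 1 := by omega
  -- orders
  have ordR : ∀ y : PSp m F, R ∣ orderOf y → orderOf y ∣ k := by
    intro y hy
    refine ord_quot (R := R) (fun x hx => pow_minus hR hR2 (hcast hR hRq) ?_ ?_ x (orderOf_pos x) hx hk) y hy
    · intro e he1 he2 h1
      have h2 := (hRm _).1 h1
      have h3 : m ∣ e := (Nat.Coprime.dvd_of_dvd_mul_left (by
        rw [Nat.coprime_comm]; exact (Nat.coprime_two_left).2 hm) h2)
      have := Nat.le_of_dvd (by omega) h3
      omega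
    · intro h1
      have h2 := (hRm m).2 dvd_rfl
      have h3 : R ∣ (q ^ m + 1) - (q ^ m - 1) := Nat.dvd_sub h1 h2
      have h4 : (q ^ m + 1) - (q ^ m - 1) = 2 := by omega
      rw [h4] at h3
      exact hR2 ((Nat.prime_dvd_prime_iff_eq hR Nat.prime_two).1 h3)
  have ordP : ∀ y : PSp m F, P ∣ orderOf y → orderOf y ∣ k + 1 := by
    intro y hy
    refine ord_quot (R := P) (fun x hx => pow_plus hP hP2 (hcast hP hPq) ?_ ?_ x (orderOf_pos x) hx hk') y hy
    · intro e he1 he2 h1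
      have h2 := Nat.le_of_dvd (by omega) ((hPm _).1 h1)
      omega
    · intro h1
      have h2 := Nat.le_of_dvd (by omega) ((hPm _).1 h1)
      omega
  -- the Frobenius group
  obtain ⟨E, _, _, hE, ψ, hψ⟩ := Cfsg.Agent.H411.Six.Emb.exists_field F m
  obtain ⟨U, c, hc, hU, hn', hfix⟩ := Cfsg.Agent.H350.PslFrob.frob_psl (F := E) (n := 2) (by omega)
  have hEc : Fintype.card E = 2 * k + 1 := by rw [hE, ← hq]; omega
  have hcard : orderOf c = k := by
    rw [hc, hEc]
    have h1 : (2 * k + 1) ^ (2 - 1) - 1 = 2 * k := by simp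
    have h2 : Nat.gcd 2 (2 * k + 1 - 1) = 2 := by
      rw [Nat.add_sub_cancel]
      exact Nat.gcd_eq_left (dvd_mul_right 2 k)
    rw [h1, h2, Nat.mul_div_cancel_left _ (by norm_num)]
  have hcψ : orderOf (ψ c) = k := by rw [orderOf_injective ψ hψ, hcard]
  have hRk : R ∣ k := by
    have h1 := (hRm m).2 dvd_rfl
    rw [← hk] at h1
    exact (hR.dvd_mul.1 h1).resolve_left fun h => hR2 ((Nat.prime_dvd_prime_iff_eq hR Nat.prime_two).1 h)
  have hPk : P ∣ k + 1 := by
    have h1 := (hPm (2 * m)).2 dvd_rfl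
    rw [fac _ _ (by omega)] at h1
    rcases hP.dvd_mul.1 h1 with h | h
    · rw [← hk'] at h
      exact (hP.dvd_mul.1 h).resolve_left fun h => hP2 ((Nat.prime_dvd_prime_iff_eq hP Nat.prime_two).1 h)
    · have := Nat.le_of_dvd (by omega) ((hPm _).1 h)
      omega
  have hkpos : 0 < k := by omega
  refine Cfsg.Agent.H357.CV.hit_of_frob hr ?_ (U.map ψ) ?_ ?_ (ψ c) ?_ ?_ ?_
  · -- the trivial module
    by_cases hrk : r ∣ k
    · -- an element of order `P`
      have hPcard : P ∣ Nat.card (PSp m F) := by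
        have h1 : P ∣ Nat.card (symplecticGroup (Fin m) F) := by
          rw [LieClassical.SympCount.card_symplecticGroup]
          refine Dvd.dvd.mul_left ?_ _
          refine dvd_trans ?_ (Finset.dvd_prod_of_mem _ (Finset.mem_range.2 (show m - 1 < m by omega)))
          rw [show m - 1 + 1 = m by omega]
          exact (hPm (2 * m)).2 dvd_rfl
        rw [Subgroup.card_eq_card_quotient_mul_card_subgroup (Subgroup.center (symplecticGroup (Fin m) F))] at h1
        refine (hP.dvd_mul.1 h1).resolve_right fun h => ?_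
        rw [LieClassical.SympCenter.card_center (by omega)] at h
        exact hP2 ((Nat.prime_dvd_prime_iff_eq hP Nat.prime_two).1 (h.trans (Nat.gcd_dvd_left _ _)))
      have := Fact.mk hP
      obtain ⟨x, hx⟩ := exists_prime_orderOf_dvd_card' P hPcard
      have hcop : ¬ r ∣ k + 1 := by
        intro h
        have h3 : r ∣ (k + 1) - k := Nat.dvd_sub h hrk
        rw [Nat.add_sub_cancel_left] at h3
        exact hr.one_lt.ne' (Nat.dvd_one.1 h3)
      refine ⟨x, ?_, ?_⟩
      · rw [hx]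
        intro h
        exact hcop (h.trans hPk)
      · intro y hy
        have h1 := ordP y (by rw [hy, hx]; exact dvd_mul_left _ _)
        rw [hy] at h1
        exact hcop ((dvd_mul_right _ _).trans h1)
    · -- an element of order `R`
      refine ⟨(ψ c) ^ (k / R), ?_, ?_⟩
      · intro h
        exact hrk (h.trans ((orderOf_pow_dvd _).trans (by rw [hcψ])))
      · intro y hy
        have h0 : orderOf (ψ c ^ (k / R)) = R := by
          rw [orderOf_pow_of_dvd (Nat.div_pos (Nat.le_of_dvd hkpos hRk) hR.pos).ne' (by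
            rw [hcψ]; exact Nat.div_dvd_of_dvd hRk), hcψ, Nat.div_div_self hRk hkpos.ne']
        have h1 := ordR y (by rw [hy, h0]; exact dvd_mul_left _ _)
        rw [hy] at h1
        exact hrk ((dvd_mul_right _ _).trans h1)
  · intro h
    rw [Subgroup.map_eq_bot_iff_of_injective _ hψ] at h
    rw [h, Subgroup.card_bot, hEc] at hU
    simp at hU
    omega
  · rw [Nat.card_congr (Subgroup.equivMapOfInjective U ψ hψ).toEquiv.symm, hU, hE]
    intro h
    exact hrF (hr.dvd_of_dvd_pow (hr.dvd_of_dvd_pow h))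
  · rintro _ ⟨a, ha, rfl⟩
    exact ⟨c * a * c⁻¹, hn' a ha, by simp⟩
  · rintro i hi _ ⟨a, ha, rfl⟩ h
    have h1 : c ^ i * a = a * c ^ i := hψ (by simpa using h)
    have h2 : a = 1 := by
      have h3 : c ^ (i % orderOf c) = c ^ i := pow_mod_orderOf c i
      rcases Nat.eq_zero_or_pos (i % orderOf c) with h0 | h0
      · exfalso
        apply hi
        rw [← map_pow, ← h3, h0, pow_zero, map_one]
      · exact hfix _ h0 (Nat.mod_lt _ (orderOf_pos c)) a ha (by rw [h3, h1])
    rw [h2, map_one]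
  · intro y hy
    rw [hcψ] at hy
    have h1 := ordR y (by rw [hy]; exact hRk.mul_left _)
    rw [hy] at h1
    have h2 := Nat.le_of_dvd hkpos h1
    have := hr.two_le
    nlinarith

end Cfsg.Agent.H238.CV.Psp
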