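import Cfsg.Agent.H992.CC.Final
import Cfsg.Agent.H416.CV.Ev
import Cfsg.Agent.H376.SpEmb
import Cfsg.Agent.Lib.Zsigmondy
import Cfsg.Agent.LieClassical.SympCount
import Cfsg.Agent.LieClassical.SympCenter
import Cfsg.Prelude.Def_Classical

/-!
# S3442, own characteristic, `PSp_2m(q)`, `q` odd (row `psp_own`; helper238)

The element `x = y ⊕ t`, `y ∈ Sp_2(m-1)(q)` of odd prime order `r`, `t ∈ Sp_2(q)` of order 4; `4 r p` is no element order.
-/

set_option autoImplicit false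
set_option linter.unusedSectionVars false

namespace Cfsg.Agent.H238.CV.PspOwn

open Matrix Cfsg Cfsg.Agent.H416.CV Cfsg.Agent.H373.CV Cfsg.Agent.H376.SpEmb

universe u v

section mult

variable {F : Type v} [Field F] [Fintype F]

local notation "𝕂" => AlgebraicClosure F
local notation "𝕢" => Fintype.card F

open Classical in
theorem count_le {S : Multiset 𝕂} (T : Finset 𝕂) : ∑ t ∈ T, S.count t ≤ S.card :=
  card_mul_le (w := fun t => S.count t) fun _ _ => le_rfl

open Classical in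
theorem sum_T2 {S : Multiset 𝕂} (hI : H416.CV.Inv S) {a : 𝕂} (ha : a ∈ S) {c : ℕ} (h : c ≤ S.count a) :
    c * (T2 a).card ≤ ∑ t ∈ T2 a, S.count t := by
  have h1 : ∑ _t ∈ T2 a, c ≤ ∑ t ∈ T2 a, S.count t :=
    Finset.sum_le_sum fun t ht => by rw [hI.count (hI.ne_zero ha) ht]; exact h
  rw [Finset.sum_const, smul_eq_mul, mul_comm] at h1
  exact h1

open Classical in
theorem one_le {S : Multiset 𝕂} {a : 𝕂} (ha : a ∈ S) : 1 ≤ S.count a := Multiset.one_le_count_iff_mem.2 ha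

open Classical in
/-- the size of `T2 a` if there is a double eigenvalue -/
theorem T2_le {m : ℕ} (hm : 1 ≤ m) {S : Multiset 𝕂} (hI : H416.CV.Inv S) (hc : S.card ≤ 2 * m) {a b : 𝕂} (ha : a ∈ S)
    (hb : 2 ≤ S.count b) : (T2 a).card ≤ 2 * m - 1 := by
  by_cases h : b ∈ T2 a
  · have h1 := sum_T2 hI ha (c := 2) (by rw [← hI.count (hI.ne_zero ha) h]; exact hb)
    have h2 := count_le (S := S) (T2 a)
    omega
  · have h1 := sum_T2 hI ha (c := 1) (one_le ha)
    have h2 := count_le (S := S) (insert b (T2 a))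
    rw [Finset.sum_insert h] at h2
    omega

open Classical in
/-- no eigenvalue of order divisible by 4 -/
theorem no_four {m : ℕ} (hm : 2 ≤ m) {S : Multiset 𝕂} (hI : H416.CV.Inv S) (hc : S.card ≤ 2 * m) {a b e : 𝕂} (ha : a ∈ S)
    (hb : 2 ≤ S.count b) (he : e ∈ S) (he4 : 4 ∣ orderOf e) (hT : 2 * (m - 1) ≤ (T2 a).card) (h4 : ¬ 4 ∣ orderOf a) :
    False := by
  have ha0 := hI.ne_zero ha
  have hea : e ∉ T2 a := fun h => h4 (by rw [← T2_orderOf ha0 h]; exact he4)
  by_cases h : b ∈ T2 a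
  · have h1 := sum_T2 hI ha (c := 2) (by rw [← hI.count ha0 h]; exact hb)
    have h2 := count_le (S := S) (insert e (T2 a))
    rw [Finset.sum_insert hea] at h2
    have h3 := one_le he
    omega
  · have h1 := sum_T2 hI ha (c := 1) (one_le ha)
    have hb0 : b ≠ 0 := hI.ne_zero (Multiset.count_pos.1 (by omega))
    by_cases hbb : b⁻¹ = b
    · have heb : e ≠ b := by
        rintro rfl
        have h3 : orderOf e ∣ 2 := orderOf_dvd_of_pow_eq_one (by
          rw [pow_two]; nth_rewrite 1 [← hbb]; exact inv_mul_cancel₀ hb0)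
        exact absurd (Nat.le_of_dvd (by norm_num) (he4.trans h3)) (by norm_num)
      have h2 := count_le (S := S) (insert e (insert b (T2 a)))
      rw [Finset.sum_insert (by rw [Finset.mem_insert, not_or]; exact ⟨heb, hea⟩), Finset.sum_insert h] at h2
      have h3 := one_le he
      omega
    · have hb1 : b⁻¹ ∉ T2 a := fun h3 => h (by have := T2_inv ha0 h3; rwa [inv_inv] at this)
      have h2 := count_le (S := S) (insert b⁻¹ (insert b (T2 a)))
      rw [Finset.sum_insert (by rw [Finset.mem_insert, not_or]; exact ⟨hbb, hb1⟩), Finset.sum_insert h,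
        hI.2.1 b] at h2
      omega

end mult

section spec

variable {F : Type v} [Field F] [Fintype F] {m : ℕ}

local notation "𝕂" => AlgebraicClosure F
local notation "𝕢" => Fintype.card F

/-- the embedding into `GL` -/
noncomputable def toGL (m : ℕ) (F : Type v) [Field F] : symplecticGroup (Fin m) F →* GL (Fin m ⊕ Fin m) F :=
  MonoidHom.toHomUnits (symplecticGroup (Fin m) F).subtype

theorem toGL_val (x : symplecticGroup (Fin m) F) : ((toGL m F x : GL (Fin m ⊕ Fin m) F) : Matrix _ _ F) = x.1 := rfl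

theorem orderOf_toGL (x : symplecticGroup (Fin m) F) : orderOf (toGL m F x) = orderOf x := by
  apply orderOf_injective
  intro a b h
  exact Subtype.ext (congrArg Units.val h)

open Classical in
/-- **no element of `Sp_2m(q)` has an order divisible by `4`, `r` and `p`** -/
theorem no_elt {p : ℕ} [hp : Fact p.Prime] [CharP F p] (hp2 : p ≠ 2) (hm : 2 ≤ m) {r : ℕ} (hr : r.Prime) (hr2 : r ≠ 2)
    (hrp : r ≠ p)
    (h : (orderOf ((𝕢 : ℕ) : ZMod r) = 2 * (m - 1) ∧ ¬ 4 ∣ 𝕢 ^ (m - 1) + 1) ∨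
      (orderOf ((𝕢 : ℕ) : ZMod r) = m - 1 ∧ Odd (m - 1) ∧ ¬ 4 ∣ 𝕢 ^ (m - 1) - 1))
    (x : symplecticGroup (Fin m) F) (h4 : 4 ∣ orderOf x) (hx : r ∣ orderOf x) (hxp : p ∣ orderOf x) : False := by
  rw [← orderOf_toGL] at h4 hx hxp
  set A := toGL m F x with hA
  have hI : H416.CV.Inv (ev (A : Matrix (Fin m ⊕ Fin m) (Fin m ⊕ Fin m) F)) := by
    refine ev_inv (B := J (Fin m) F) ?_ ?_
    · rw [Matrix.isUnit_iff_isUnit_det]
      exact Matrix.isUnit_det_J _ _
    · exact SymplecticGroup.mem_iff'.1 x.2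
  have hcard : (ev (A : Matrix (Fin m ⊕ Fin m) (Fin m ⊕ Fin m) F)).card ≤ 2 * m := by
    rw [card_ev, Fintype.card_sum, Fintype.card_fin, two_mul]
  obtain ⟨a, ha, hra⟩ := exists_eig (p := p) (k := 1) hr hrp one_pos (by rwa [pow_one])
  rw [pow_one] at hra
  obtain ⟨b, hb⟩ := exists_double (p := p) hxp
  obtain ⟨e, he, he4⟩ := exists_eig (p := p) (l := 2) (k := 2) Nat.prime_two (Ne.symm hp2) (by norm_num)
    (by norm_num; exact h4)
  norm_num at he4
  have ha0 := hI.ne_zero ha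
  have hle := T2_le (by omega) hI hcard ha hb
  have hpos := deg_pos ha0
  have hsub : deg a ≤ (T2 a).card := by
    rw [← card_orb ha0]
    exact Finset.card_le_card Finset.subset_union_left
  have haa : a * a ≠ 1 := by
    intro h1
    have h2 : orderOf a ∣ 2 := orderOf_dvd_of_pow_eq_one (by rw [pow_two, h1])
    exact hr2 ((Nat.prime_dvd_prime_iff_eq hr Nat.prime_two).1 (hra.trans h2))
  rcases h with ⟨h1, h2⟩ | ⟨h1, h3, h2⟩
  · have hdvd := dvd_deg ha0 hra h1
    have hdeg : deg a = 2 * (m - 1) := by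
      obtain ⟨c, hc⟩ := hdvd
      have hc1 : c < 2 := by
        by_contra hcon
        push Not at hcon
        have : 2 * (m - 1) * 2 ≤ 2 * (m - 1) * c := Nat.mul_le_mul_left _ hcon
        omega
      have hc0 : c ≠ 0 := by rintro rfl; omega
      have : c = 1 := by omega
      rw [hc, this, mul_one]
    have hself : a⁻¹ ∈ orb a := by
      by_contra hcon
      have := card_T2 ha0 hcon
      omega
    obtain ⟨j, hj, hj2⟩ := selfdual ha0 haa hself
    have hjm : j = m - 1 := by omega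
    subst hjm
    refine no_four hm hI hcard ha hb he he4 (by omega) fun h5 => h2 ?_
    exact h5.trans (orderOf_dvd_of_pow_eq_one hj2)
  · have hns := not_selfdual ha0 hr hr2 hra h1 h3
    have hc2 := card_T2 ha0 hns
    have hdvd := dvd_deg ha0 hra h1
    have hdeg : deg a = m - 1 := by
      have := Nat.le_of_dvd hpos hdvd
      omega
    refine no_four hm hI hcard ha hb he he4 (by omega) fun h5 => h2 ?_
    have h6 := pow_deg ha0
    rw [hdeg] at h6
    have h7 : 0 < 𝕢 ^ (m - 1) := Nat.pow_pos Fintype.card_pos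
    have h8 : a ^ (𝕢 ^ (m - 1) - 1) = 1 := by
      have h9 : a ^ (𝕢 ^ (m - 1) - 1) * a = 1 * a := by
        rw [← pow_succ, Nat.sub_add_cancel h7, h6, one_mul]
      exact mul_right_cancel₀ ha0 h9
    exact h5.trans (orderOf_dvd_of_pow_eq_one h8)

/-- the same in `PSp_2m(q)` -/
theorem no_elt_psp {p : ℕ} [hp : Fact p.Prime] [CharP F p] (hp2 : p ≠ 2) (hm : 2 ≤ m) {r : ℕ} (hr : r.Prime) (hr2 : r ≠ 2)
    (hrp : r ≠ p)
    (h : (orderOf ((𝕢 : ℕ) : ZMod r) = 2 * (m - 1) ∧ ¬ 4 ∣ 𝕢 ^ (m - 1) + 1) ∨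
      (orderOf ((𝕢 : ℕ) : ZMod r) = m - 1 ∧ Odd (m - 1) ∧ ¬ 4 ∣ 𝕢 ^ (m - 1) - 1))
    (y : PSp m F) : orderOf y ≠ p * (4 * r) := by
  intro hy
  obtain ⟨x, rfl⟩ := QuotientGroup.mk_surjective y
  have h1 : p * (4 * r) ∣ orderOf x := by
    rw [← hy]
    exact orderOf_map_dvd (QuotientGroup.mk' (Subgroup.center (symplecticGroup (Fin m) F))) x
  exact no_elt hp2 hm hr hr2 hrp h x
    ((((dvd_mul_right 4 r).mul_left p)).trans h1) (((dvd_mul_left r 4).mul_left p).trans h1) ((dvd_mul_right p _).trans h1)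

end spec

section elt

variable {F : Type v} [Field F] {a : ℕ}

/-- `Sp_2a × Sp_2 → Sp_2(a+1)` -/
def phi (a : ℕ) (F : Type v) [Field F] :
    symplecticGroup (Fin a) F × symplecticGroup (Fin 1) F →* symplecticGroup (Fin (a + 1)) F :=
  (reidx finSumFinEquiv).comp (blk (Fin a) (Fin 1))

theorem phi_inj : Function.Injective (phi a F) := (reidx_injective _).comp (blk_injective _ _)

theorem phi_apply (g : symplecticGroup (Fin a) F × symplecticGroup (Fin 1) F)
    (i j : (Fin a ⊕ Fin 1) ⊕ (Fin a ⊕ Fin 1)) :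
    (phi a F g).1 (Equiv.sumCongr finSumFinEquiv finSumFinEquiv i) (Equiv.sumCongr finSumFinEquiv finSumFinEquiv j) =
      blkM g.1.1 g.2.1 i j := by
  change (blkM g.1.1 g.2.1).submatrix (Equiv.sumCongr finSumFinEquiv finSumFinEquiv).symm
    (Equiv.sumCongr finSumFinEquiv finSumFinEquiv).symm _ _ = _
  rw [Matrix.submatrix_apply, Equiv.symm_apply_apply, Equiv.symm_apply_apply]

/-- the vector -/
def vec (a : ℕ) (F : Type v) [Field F] : Fin (a + 1) ⊕ Fin (a + 1) → F :=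
  Pi.single (Equiv.sumCongr finSumFinEquiv finSumFinEquiv (Sum.inl (Sum.inr (0 : Fin 1)) : (Fin a ⊕ Fin 1) ⊕ (Fin a ⊕ Fin 1))) 1

theorem vec_ne : vec a F ≠ 0 := by
  intro h
  have := congrFun h (Equiv.sumCongr finSumFinEquiv finSumFinEquiv (Sum.inl (Sum.inr (0 : Fin 1))))
  rw [vec, Pi.single_eq_same] at this
  exact one_ne_zero this

theorem phi_vec (g : symplecticGroup (Fin a) F) : (phi a F (g, 1)).1 *ᵥ vec a F = vec a F := by
  rw [vec, Matrix.mulVec_single_one]
  funext i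
  obtain ⟨i, rfl⟩ := (Equiv.sumCongr (finSumFinEquiv (m := a) (n := 1)) (finSumFinEquiv (m := a) (n := 1))).surjective i
  rw [Matrix.col_apply, phi_apply]
  have hone : ((1 : symplecticGroup (Fin 1) F) : Matrix (Fin 1 ⊕ Fin 1) (Fin 1 ⊕ Fin 1) F) = 1 := rfl
  rcases i with (i | i) | (i | i)
  · rw [Pi.single_eq_of_ne (by
      intro h
      have := (Equiv.sumCongr (finSumFinEquiv (m := a) (n := 1)) (finSumFinEquiv (m := a) (n := 1))).injective h
      simp at this)]
    rfl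
  · have hi : i = 0 := Subsingleton.elim _ _
    rw [hi, Pi.single_eq_same]
    change (1 : Matrix (Fin 1 ⊕ Fin 1) (Fin 1 ⊕ Fin 1) F) (Sum.inl 0) (Sum.inl 0) = 1
    exact Matrix.one_apply_eq _
  · rw [Pi.single_eq_of_ne (by
      intro h
      have := (Equiv.sumCongr (finSumFinEquiv (m := a) (n := 1)) (finSumFinEquiv (m := a) (n := 1))).injective h
      simp at this)]
    rfl
  · rw [Pi.single_eq_of_ne (by
      intro h
      have := (Equiv.sumCongr (finSumFinEquiv (m := a) (n := 1)) (finSumFinEquiv (m := a) (n := 1))).injective h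
      simp at this)]
    change (1 : Matrix (Fin 1 ⊕ Fin 1) (Fin 1 ⊕ Fin 1) F) (Sum.inr i) (Sum.inl 0) = 0
    exact Matrix.one_apply_ne (by simp)

/-- the element of order 4 -/
def tt (F : Type v) [Field F] : symplecticGroup (Fin 1) F := ⟨J (Fin 1) F, SymplecticGroup.J_mem _ _⟩

theorem tt_sq_val : ((tt F ^ 2 : symplecticGroup (Fin 1) F) : Matrix (Fin 1 ⊕ Fin 1) (Fin 1 ⊕ Fin 1) F) = -1 := by
  rw [SubmonoidClass.coe_pow, pow_two]
  exact J_squared _ _

theorem tt_four : tt F ^ 4 = 1 := by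
  apply Subtype.ext
  have h1 : tt F ^ 4 = tt F ^ 2 * tt F ^ 2 := by rw [← pow_add]
  rw [h1, Submonoid.coe_mul, tt_sq_val]
  simp

theorem tt_two_odd {r : ℕ} (hr : Odd r) :
    ((tt F ^ (2 * r) : symplecticGroup (Fin 1) F) : Matrix (Fin 1 ⊕ Fin 1) (Fin 1 ⊕ Fin 1) F) = -1 := by
  obtain ⟨c, rfl⟩ := hr
  have h1 : tt F ^ (2 * (2 * c + 1)) = (tt F ^ 4) ^ c * tt F ^ 2 := by
    rw [← pow_mul, ← pow_add]
    congr 1
    ring
  rw [h1, tt_four, one_pow, one_mul, tt_sq_val]

/-- the order of the element modulo the centre -/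
theorem orderOf_elt (ha : 1 ≤ a) (h2 : (2 : F) ≠ 0) {r : ℕ} (hr : r.Prime) (hr2 : r ≠ 2)
    {y : symplecticGroup (Fin a) F} (hy : orderOf y = r) :
    orderOf (QuotientGroup.mk (phi a F (y, tt F)) : PSp (a + 1) F) = 4 * r := by
  set x := phi a F (y, tt F) with hx
  have hpow : ∀ k, x ^ k = phi a F (y ^ k, tt F ^ k) := fun k => by
    rw [hx, ← map_pow]; rfl
  have hodd : Odd r := hr.odd_of_ne_two hr2
  have hmk : ∀ k, (QuotientGroup.mk x : PSp (a + 1) F) ^ k = 1 → ∃ c : F, (x ^ k).1 = c • 1 := by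
    intro k hk
    rw [← QuotientGroup.mk_pow, QuotientGroup.eq_one_iff, LieClassical.SympCenter.mem_center_iff] at hk
    exact hk
  have h4r : (QuotientGroup.mk x : PSp (a + 1) F) ^ (4 * r) = 1 := by
    rw [← QuotientGroup.mk_pow, hpow]
    have e1 : y ^ (4 * r) = 1 := by rw [mul_comm, pow_mul, ← hy, pow_orderOf_eq_one, one_pow]
    have e2 : tt F ^ (4 * r) = 1 := by rw [pow_mul, tt_four, one_pow]
    rw [e1, e2]
    have : phi a F (1, 1) = 1 := map_one _
    rw [this]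
    rfl
  have hn4 : (QuotientGroup.mk x : PSp (a + 1) F) ^ 4 ≠ 1 := by
    intro h
    obtain ⟨c, hc⟩ := hmk 4 h
    rw [hpow, tt_four] at hc
    have h1 := phi_vec (y ^ 4)
    rw [hc, smul_mulVec, one_mulVec] at h1
    have h3 : c = 1 := by
      have h5 := congrFun h1 (Equiv.sumCongr finSumFinEquiv finSumFinEquiv (Sum.inl (Sum.inr (0 : Fin 1))))
      rw [Pi.smul_apply, vec, Pi.single_eq_same, smul_eq_mul, mul_one] at h5
      exact h5
    rw [h3, one_smul] at hc
    have h6 : phi a F (y ^ 4, 1) = phi a F (1, 1) := by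
      apply Subtype.ext
      rw [hc]
      have : phi a F (1, 1) = 1 := map_one _
      rw [this]
      rfl
    have h7 : y ^ 4 = 1 := congrArg Prod.fst (phi_inj h6)
    have h8 := orderOf_dvd_of_pow_eq_one h7
    rw [hy] at h8
    have h9 : r ∣ 2 ^ 2 := by norm_num; exact h8
    exact hr2 ((Nat.prime_dvd_prime_iff_eq hr Nat.prime_two).1 (hr.dvd_of_dvd_pow h9))
  have hn2r : (QuotientGroup.mk x : PSp (a + 1) F) ^ (2 * r) ≠ 1 := by
    intro h
    obtain ⟨c, hc⟩ := hmk (2 * r) h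
    have e1 : y ^ (2 * r) = 1 := by rw [mul_comm, pow_mul, ← hy, pow_orderOf_eq_one, one_pow]
    rw [hpow, e1] at hc
    have h1 := phi_apply (F := F) ((1 : symplecticGroup (Fin a) F), tt F ^ (2 * r)) (Sum.inl (Sum.inl ⟨0, ha⟩))
      (Sum.inl (Sum.inl ⟨0, ha⟩))
    have h3 := phi_apply (F := F) ((1 : symplecticGroup (Fin a) F), tt F ^ (2 * r)) (Sum.inl (Sum.inr 0))
      (Sum.inl (Sum.inr 0))
    rw [hc, Matrix.smul_apply, Matrix.one_apply_eq, smul_eq_mul, mul_one] at h1 h3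
    have h5 : blkM ((1 : symplecticGroup (Fin a) F) : Matrix (Fin a ⊕ Fin a) (Fin a ⊕ Fin a) F)
        (tt F ^ (2 * r) : symplecticGroup (Fin 1) F).1 (Sum.inl (Sum.inl ⟨0, ha⟩)) (Sum.inl (Sum.inl ⟨0, ha⟩)) = 1 := by
      change (1 : Matrix (Fin a ⊕ Fin a) (Fin a ⊕ Fin a) F) (Sum.inl ⟨0, ha⟩) (Sum.inl ⟨0, ha⟩) = 1
      exact Matrix.one_apply_eq _
    have h6 : blkM ((1 : symplecticGroup (Fin a) F) : Matrix (Fin a ⊕ Fin a) (Fin a ⊕ Fin a) F)
        (tt F ^ (2 * r) : symplecticGroup (Fin 1) F).1 (Sum.inl (Sum.inr 0)) (Sum.inl (Sum.inr 0)) = -1 := by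
      change (tt F ^ (2 * r) : symplecticGroup (Fin 1) F).1 (Sum.inl 0) (Sum.inl 0) = -1
      rw [tt_two_odd hodd]
      simp
    rw [h5] at h1
    rw [h6, h1] at h3
    apply h2
    linear_combination h3
  -- the order
  set N := orderOf (QuotientGroup.mk x : PSp (a + 1) F) with hN
  have hN1 : N ∣ 4 * r := orderOf_dvd_of_pow_eq_one h4r
  have hN2 : ¬ N ∣ 4 := fun h => hn4 (orderOf_dvd_iff_pow_eq_one.1 h)
  have hN3 : ¬ N ∣ 2 * r := fun h => hn2r (orderOf_dvd_iff_pow_eq_one.1 h)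
  have hrN : r ∣ N := by
    by_contra hcon
    exact hN2 (((Nat.Prime.coprime_iff_not_dvd hr).2 hcon).symm.dvd_of_dvd_mul_right hN1)
  obtain ⟨c, hc⟩ := hrN
  rw [hc] at hN1 hN3 ⊢
  have hc4 : c ∣ 4 := by
    rw [mul_comm 4 r] at hN1
    exact Nat.dvd_of_mul_dvd_mul_left hr.pos hN1
  have hc2 : ¬ c ∣ 2 := fun h => hN3 (by rw [mul_comm 2 r]; exact Nat.mul_dvd_mul_left r h)
  have hc5 : c ≤ 4 := Nat.le_of_dvd (by norm_num) hc4
  interval_cases c
  · omega
  · exact absurd (one_dvd 2) hc2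
  · exact absurd (dvd_refl 2) hc2
  · omega
  · exact mul_comm r 4

end elt

/-- the choice of `r` -/
theorem exists_r {q a : ℕ} (hq : Odd q) (hq1 : 1 < q) (ha : 1 ≤ a) (h3 : a = 1 → 3 < q) :
    ∃ r : ℕ, r.Prime ∧ r ≠ 2 ∧ ¬ r ∣ q ∧ r ∣ q ^ (2 * a) - 1 ∧
      ((orderOf ((q : ℕ) : ZMod r) = 2 * a ∧ ¬ 4 ∣ q ^ a + 1) ∨ (orderOf ((q : ℕ) : ZMod r) = a ∧ Odd a ∧ ¬ 4 ∣ q ^ a - 1)) := by
  have hnd : ∀ {r n : ℕ}, r.Prime → 0 < n → orderOf ((q : ℕ) : ZMod r) = n → ¬ r ∣ q := by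
    intro r n hr hn ho h
    have := Fact.mk hr
    have h0 : ((q : ℕ) : ZMod r) = 0 := (ZMod.natCast_eq_zero_iff q r).2 h
    rw [h0, orderOf_zero] at ho
    omega
  have hne2 : ∀ {r n : ℕ}, 1 < n → orderOf ((q : ℕ) : ZMod r) = n → r ≠ 2 := by
    rintro r n hn ho rfl
    have h1 : ((q : ℕ) : ZMod 2) = 1 := by
      obtain ⟨c, hc⟩ := hq
      rw [hc]
      push_cast
      have : (2 : ZMod 2) = 0 := rfl
      rw [this, zero_mul, zero_add]
    rw [h1, orderOf_one] at ho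
    omega
  have hdvd : ∀ {r n k : ℕ}, orderOf ((q : ℕ) : ZMod r) = n → n ∣ k → r ∣ q ^ k - 1 := by
    intro r n k ho hk
    rw [Cfsg.Agent.Lib.Zsigmondy.dvd_pow_sub_one_iff (by omega), ho]
    exact hk
  by_cases hA : q % 4 = 1 ∨ Even a
  · -- `q ^ a + 1` is 2 modulo 4
    have h4 : ¬ 4 ∣ q ^ a + 1 := by
      intro h
      have h5 : (q ^ a + 1) % 4 = 0 := Nat.mod_eq_zero_of_dvd h
      rcases hA with h1 | h1
      · have : q ^ a % 4 = 1 := by rw [Nat.pow_mod, h1, one_pow]; norm_num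
        omega
      · obtain ⟨c, hc⟩ := h1
        have h6 : q * q % 4 = 1 := by
          have : q % 4 = 1 ∨ q % 4 = 3 := by obtain ⟨d, hd⟩ := hq; omega
          rcases this with h | h <;> rw [Nat.mul_mod, h]
        have : q ^ a % 4 = 1 := by
          rw [hc, pow_add, ← mul_pow, Nat.pow_mod, h6, one_pow]; norm_num
        omega
    by_cases ha1 : a = 1
    · subst ha1
      have hq4 : q % 4 = 1 := hA.resolve_right (by rintro ⟨c, hc⟩; omega)
      -- an odd prime divisor of `(q + 1) / 2`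
      obtain ⟨r, hr, hrd⟩ := Nat.exists_prime_and_dvd (n := (q + 1) / 2) (by omega)
      have hr2 : r ≠ 2 := by
        rintro rfl
        omega
      have hrq1 : r ∣ q + 1 := hrd.trans (Nat.div_dvd_of_dvd (by omega))
      have := Fact.mk hr
      have hqm : ((q : ℕ) : ZMod r) = -1 := by
        have h1 : (((q + 1 : ℕ)) : ZMod r) = 0 := (ZMod.natCast_eq_zero_iff _ _).2 hrq1
        push_cast at h1
        exact eq_neg_of_add_eq_zero_left h1
      have ho : orderOf ((q : ℕ) : ZMod r) = 2 := by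
        have : Fact (Nat.Prime 2) := ⟨Nat.prime_two⟩
        apply orderOf_eq_prime
        · rw [hqm]; ring
        · rw [hqm]
          intro h1
          have h8 : (2 : ZMod r) = 0 := by linear_combination -h1
          have h9 : r ∣ 2 := (ZMod.natCast_eq_zero_iff 2 r).1 (by exact_mod_cast h8)
          exact hr2 ((Nat.prime_dvd_prime_iff_eq hr Nat.prime_two).1 h9)
      exact ⟨r, hr, hr2, hnd hr (by norm_num) ho, hdvd ho (by norm_num), Or.inl ⟨by rw [ho], h4⟩⟩
    · obtain ⟨r, hr, ho⟩ := Cfsg.Agent.Lib.Zsigmondy.exists_prime_orderOf (a := q) (n := 2 * a) (by omega) (by omega)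
        (by omega) (by obtain ⟨d, hd⟩ := hq; omega)
      exact ⟨r, hr, hne2 (by omega) ho, hnd hr (by omega) ho, hdvd ho dvd_rfl, Or.inl ⟨ho, h4⟩⟩
  · push Not at hA
    obtain ⟨hq4, hae⟩ := hA
    have hao : Odd a := Nat.not_even_iff_odd.1 hae
    have hq3 : q % 4 = 3 := by obtain ⟨d, hd⟩ := hq; omega
    have h4 : ¬ 4 ∣ q ^ a - 1 := by
      intro h
      have h5 : (q ^ a - 1) % 4 = 0 := Nat.mod_eq_zero_of_dvd h
      have h6 : q * q % 4 = 1 := by rw [Nat.mul_mod, hq3]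
      have h7 : q ^ a % 4 = 3 := by
        obtain ⟨c, hc⟩ := hao
        rw [hc, pow_succ, pow_mul, pow_two, Nat.mul_mod, Nat.pow_mod, h6, one_pow, hq3]; norm_num
      omega
    by_cases ha1 : a = 1
    · subst ha1
      have hq5 := h3 rfl
      obtain ⟨r, hr, hrd⟩ := Nat.exists_prime_and_dvd (n := (q - 1) / 2) (by omega)
      have hr2 : r ≠ 2 := by
        rintro rfl
        omega
      have hrq1 : r ∣ q - 1 := hrd.trans (Nat.div_dvd_of_dvd (by omega))
      have hqm : ((q : ℕ) : ZMod r) = 1 := by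
        have h1 : (((q - 1 : ℕ)) : ZMod r) = 0 := (ZMod.natCast_eq_zero_iff _ _).2 hrq1
        rw [Nat.cast_sub (by omega), Nat.cast_one, sub_eq_zero] at h1
        exact h1
      have ho : orderOf ((q : ℕ) : ZMod r) = 1 := by rw [hqm, orderOf_one]
      exact ⟨r, hr, hr2, hnd hr (by norm_num) ho, hdvd ho (one_dvd _), Or.inr ⟨ho, hao, h4⟩⟩
    · obtain ⟨r, hr, ho⟩ := Cfsg.Agent.Lib.Zsigmondy.exists_prime_orderOf (a := q) (n := a) (by omega) (by omega)
        (by rintro rfl; exact absurd hao (by decide)) (by obtain ⟨d, hd⟩ := hq; omega)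
      exact ⟨r, hr, hne2 (by omega) ho, hnd hr (by omega) ho, hdvd ho (Dvd.intro_left 2 rfl), Or.inr ⟨ho, hao, h4⟩⟩

/-- **Own characteristic, `PSp_2m(q)`, `q` odd.** -/
theorem psp_own {F : Type v} [Field F] [Fintype F] (p : ℕ) [hp : Fact p.Prime] [CharP F p] (m : ℕ) (hp2 : p ≠ 2)
    (hm : 2 ≤ m) (hm3 : m = 2 → 3 < Fintype.card F) : Hit.{u, v} p (PSp m F) := by
  obtain ⟨a, rfl⟩ : ∃ a, m = a + 1 := ⟨m - 1, by omega⟩
  obtain ⟨n, -, hn⟩ := FiniteField.card F p
  have hq : Odd (Fintype.card F) := by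
    rw [hn]
    exact (hp.out.odd_of_ne_two hp2).pow
  have hq1 : 1 < Fintype.card F := Fintype.one_lt_card
  obtain ⟨r, hr, hr2, hrq, hrd, hor⟩ := exists_r hq hq1 (a := a) (by omega) (by intro h; exact hm3 (by omega))
  have hrp : r ≠ p := by
    rintro rfl
    exact hrq (by rw [hn]; exact dvd_pow_self r n.ne_zero)
  have h2 : (2 : F) ≠ 0 := by
    intro h
    have h1 : ((2 : ℕ) : F) = 0 := by exact_mod_cast h
    rw [CharP.cast_eq_zero_iff F p] at h1
    exact hp2 ((Nat.prime_dvd_prime_iff_eq hp.out Nat.prime_two).1 h1)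
  -- the element `y`
  have hcard : r ∣ Nat.card (symplecticGroup (Fin a) F) := by
    rw [LieClassical.SympCount.card_symplecticGroup]
    refine Dvd.dvd.mul_left ?_ _
    refine dvd_trans ?_ (Finset.dvd_prod_of_mem _ (Finset.mem_range.2 (show a - 1 < a by omega)))
    rw [show a - 1 + 1 = a by omega]
    exact hrd
  have := Fact.mk hr
  obtain ⟨y, hy⟩ := exists_prime_orderOf_dvd_card' r hcard
  have hord := orderOf_elt (F := F) (a := a) (by omega) h2 hr hr2 hy
  refine H992.CC.hit_PSp hp2 (phi a F (y, tt F)) ?_ (v := vec a F) vec_ne ?_ ?_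
  · have h1 : orderOf (phi a F (y, tt F)) ∣ 4 * r := by
      apply orderOf_dvd_of_pow_eq_one
      rw [← map_pow, Prod.pow_mk]
      have e1 : y ^ (4 * r) = 1 := by rw [mul_comm, pow_mul, ← hy, pow_orderOf_eq_one, one_pow]
      have e2 : tt F ^ (4 * r) = 1 := by rw [pow_mul, tt_four, one_pow]
      rw [e1, e2]
      exact map_one _
    refine Nat.Coprime.coprime_dvd_left h1 (Nat.Coprime.mul_left ?_ ?_)
    · have : (2 ^ 2).Coprime p := Nat.Coprime.pow_left 2 ((Nat.coprime_primes Nat.prime_two hp.out).2 (Ne.symm hp2))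
      norm_num at this
      exact this
    · exact (Nat.coprime_primes hr hp.out).2 hrp
  · have h1 : (phi a F (y, tt F)).1 ^ 4 = (phi a F (y ^ 4, 1)).1 := by
      rw [← SubmonoidClass.coe_pow, ← map_pow, Prod.pow_mk, tt_four]
    rw [h1]
    exact phi_vec _
  · intro z
    rw [hord]
    refine no_elt_psp hp2 hm hr hr2 hrp ?_ z
    rw [Nat.add_sub_cancel]
    exact hor

end Cfsg.Agent.H238.CV.PspOwn
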